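import Cfsg.Agent.Lib.CommGraph.PlaneModel
import Cfsg.Agent.Lib.Classical.Card
import Cfsg.Agent.Lib.Classical.Transvection

/-!
The transvections of `SL(3, 3)`: their cliques in the commuting graph and their characterisation
by the order of the centralizer.
-/

set_option autoImplicit false

namespace CfsgLib.CommGraph

open Matrix

/-- The group `SL(3, 3)`. -/
abbrev SL33 : Type := Matrix.SpecialLinearGroup (Fin 3) (ZMod 3)

/-- The matrix of the transvection of a point and a line. -/
def M (i j : Fin 13) (c : Fin 2) : Matrix (Fin 3) (Fin 3) (ZMod 3) :=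
  1 + vecMulVec (((c.val + 1 : ℕ) : ZMod 3) • pt i) (pt j)

theorem det_M : ∀ i j c, inc i j = true → (M i j c).det = 1 := by
  intro i j c h
  rw [M, vecMulVec_eq Unit, det_one_add_replicateCol_mul_replicateRow, dotProduct_smul,
    dotProduct_comm, (inc_iff i j).1 h, smul_zero, add_zero]

/-- Entries as natural numbers. -/
def ent (i j : Fin 13) (c : Fin 2) (a b : Fin 3) : ℕ :=
  ((if a = b then 1 else 0) + (c.val + 1) * coord i a * coord j b) % 3

theorem M_apply (i j : Fin 13) (c : Fin 2) (a b : Fin 3) : M i j c a b = (ent i j c a b : ZMod 3) := by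
  simp [M, ent, pt, vecMulVec_apply, Matrix.one_apply, ZMod.natCast_mod]
  ring

theorem ent_lt (i j : Fin 13) (c : Fin 2) (a b : Fin 3) : ent i j c a b < 3 :=
  Nat.mod_lt _ (by omega)

theorem ent_eq {i j i' j' : Fin 13} {c c' : Fin 2} (h : M i j c = M i' j' c') (a b : Fin 3) :
    ent i j c a b = ent i' j' c' a b := by
  have := congrFun (congrFun h a) b
  rw [M_apply, M_apply] at this
  have := (ZMod.natCast_eq_natCast_iff' _ _ _).1 this
  rwa [Nat.mod_eq_of_lt (ent_lt ..), Nat.mod_eq_of_lt (ent_lt ..)] at this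

/-- The labels of the transvections. -/
def labels : List (Fin 13 × Fin 13 × Fin 2) :=
  (List.finRange 13).flatMap fun i => ((List.finRange 13).filter fun j => inc i j).flatMap fun j =>
    [(i, j, 0), (i, j, 1)]

theorem mem_labels {i j : Fin 13} (h : inc i j = true) (c : Fin 2) : (i, j, c) ∈ labels := by
  simp only [labels, List.mem_flatMap, List.mem_filter, List.mem_finRange, true_and]
  exact ⟨i, j, h, by fin_cases c <;> simp⟩

/-- The code of a matrix. -/
def code (x : Fin 13 × Fin 13 × Fin 2) : ℕ :=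
  (List.finRange 3).foldl (fun s a => (List.finRange 3).foldl
    (fun s b => 3 * s + ent x.1 x.2.1 x.2.2 a b) s) 0

theorem code_nodup : (labels.map code).Nodup := by decide +kernel

theorem M_inj {i j i' j' : Fin 13} {c c' : Fin 2} (hi : inc i j = true) (hi' : inc i' j' = true)
    (h : M i j c = M i' j' c') : i = i' ∧ j = j' ∧ c = c' := by
  have e : code (i, j, c) = code (i', j', c') := by simp only [code, ent_eq h]
  have := List.inj_on_of_nodup_map code_nodup (mem_labels hi c) (mem_labels hi' c') e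
  simpa using this

/-- An entry of a product. -/
def entMul (x y : Fin 13 × Fin 13 × Fin 2) (a b : Fin 3) : ℕ :=
  (ent x.1 x.2.1 x.2.2 a 0 * ent y.1 y.2.1 y.2.2 0 b +
    ent x.1 x.2.1 x.2.2 a 1 * ent y.1 y.2.1 y.2.2 1 b +
    ent x.1 x.2.1 x.2.2 a 2 * ent y.1 y.2.1 y.2.2 2 b) % 3

theorem comm_aux : (labels.all fun x => labels.all fun y => x.1 == y.1 || x.2.1 == y.2.1 ||
    (List.finRange 3).any fun a => (List.finRange 3).any fun b =>
      !(entMul x y a b == entMul y x a b)) = true := by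
  decide +kernel

theorem eq_or_eq_of_commute {i j i' j' : Fin 13} {c c' : Fin 2} (hi : inc i j = true)
    (hi' : inc i' j' = true) (h : M i j c * M i' j' c' = M i' j' c' * M i j c) :
    i = i' ∨ j = j' := by
  have hk := comm_aux
  simp only [List.all_eq_true, Bool.or_eq_true, List.any_eq_true, Bool.not_eq_true',
    beq_eq_false_iff_ne, beq_iff_eq, List.mem_finRange, true_and] at hk
  rcases hk _ (mem_labels hi c) _ (mem_labels hi' c') with (e | e) | ⟨a, b, e⟩
  · exact Or.inl e
  · exact Or.inr e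
  · refine absurd ?_ e
    have := congrFun (congrFun h a) b
    simp only [Matrix.mul_apply, Fin.sum_univ_three, M_apply, ← Nat.cast_mul, ← Nat.cast_add] at this
    exact (ZMod.natCast_eq_natCast_iff' _ _ _).1 this

/-- The transvection of a label, as a group element. -/
def el (i j : Fin 13) (c : Fin 2) : SL33 :=
  if h : inc i j = true then ⟨M i j c, det_M i j c h⟩ else 1

theorem el_val {i j : Fin 13} (h : inc i j = true) (c : Fin 2) : (el i j c).1 = M i j c := by
  unfold el
  simp [h]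

/-- The transvections. -/
def IsTv (g : SL33) : Prop := ∃ i j c, inc i j = true ∧ g = el i j c

/-- Membership in the clique of a vertex. -/
def InS : Obj → SL33 → Prop
  | .inl i, g => ∃ j c, inc i j = true ∧ g = el i j c
  | .inr j, g => ∃ i c, inc i j = true ∧ g = el i j c

/-- The labels of a clique. -/
def own : Obj → Finset (Fin 13 × Fin 13 × Fin 2)
  | .inl i => Finset.univ.filter fun x => inc x.1 x.2.1 = true ∧ x.1 = i
  | .inr j => Finset.univ.filter fun x => inc x.1 x.2.1 = true ∧ x.2.1 = j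

theorem card_own : ∀ o, (own o).card = 8 := by decide +kernel

theorem setOf_inS (o : Obj) :
    {g | InS o g} = (fun x : Fin 13 × Fin 13 × Fin 2 => el x.1 x.2.1 x.2.2) '' ↑(own o) := by
  ext g
  rcases o with i | j
  · constructor
    · rintro ⟨j, c, h, rfl⟩
      exact ⟨(i, j, c), by simp [own, h], rfl⟩
    · rintro ⟨⟨i', j, c⟩, hx, rfl⟩
      simp only [own, Finset.coe_filter, Finset.mem_univ, true_and, Set.mem_ofPred_eq] at hx
      obtain ⟨h, rfl⟩ := hx
      exact ⟨j, c, h, rfl⟩
  · constructor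
    · rintro ⟨i, c, h, rfl⟩
      exact ⟨(i, j, c), by simp [own, h], rfl⟩
    · rintro ⟨⟨i, j', c⟩, hx, rfl⟩
      simp only [own, Finset.coe_filter, Finset.mem_univ, true_and, Set.mem_ofPred_eq] at hx
      obtain ⟨h, rfl⟩ := hx
      exact ⟨i, c, h, rfl⟩

theorem el_inj {i j i' j' : Fin 13} {c c' : Fin 2} (hi : inc i j = true) (hi' : inc i' j' = true)
    (h : el i j c = el i' j' c') : i = i' ∧ j = j' ∧ c = c' :=
  M_inj hi hi' (by rw [← el_val hi, ← el_val hi', h])

theorem ncard_inS (o : Obj) : {g | InS o g}.ncard = 8 := by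
  rw [setOf_inS, Set.InjOn.ncard_image, Set.ncard_coe_finset, card_own]
  rintro ⟨i, j, c⟩ hx ⟨i', j', c'⟩ hy e
  have h1 : inc i j = true := by rcases o with k | k <;> simp [own] at hx <;> exact hx.1
  have h2 : inc i' j' = true := by rcases o with k | k <;> simp [own] at hy <;> exact hy.1
  obtain ⟨rfl, rfl, rfl⟩ := el_inj h1 h2 e
  rfl

theorem isTv_of_inS {o : Obj} {g : SL33} (h : InS o g) : IsTv g := by
  rcases o with i | j
  · obtain ⟨j, c, h, rfl⟩ := h; exact ⟨i, j, c, h, rfl⟩
  · obtain ⟨i, c, h, rfl⟩ := h; exact ⟨i, j, c, h, rfl⟩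

theorem orth_cases : ∀ i j j' : Fin 13, inc i j = true → inc i j' = true →
    pt j ⬝ᵥ pt i = 0 ∧ pt j' ⬝ᵥ pt i = 0 := fun i j j' h h' =>
  ⟨by rw [dotProduct_comm]; exact (inc_iff i j).1 h, by rw [dotProduct_comm]; exact (inc_iff i j').1 h'⟩

theorem commute_of_inS {o : Obj} {g g' : SL33} (h : InS o g) (h' : InS o g') : Commute g g' := by
  have key : ∀ v φ v' φ' : Fin 3 → ZMod 3, φ ⬝ᵥ v' = 0 → φ' ⬝ᵥ v = 0 →
      (1 + vecMulVec v φ) * (1 + vecMulVec v' φ') = (1 + vecMulVec v' φ') * (1 + vecMulVec v φ) := by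
    intro v φ v' φ' e e'
    have z : vecMulVec v φ * vecMulVec v' φ' = 0 := by
      rw [vecMulVec_mul_vecMulVec, e]; simp
    have z' : vecMulVec v' φ' * vecMulVec v φ = 0 := by
      rw [vecMulVec_mul_vecMulVec, e']; simp
    simp only [add_mul, mul_add, one_mul, mul_one, z, z']
    abel
  rcases o with i | j
  · obtain ⟨j, c, hj, rfl⟩ := h
    obtain ⟨j', c', hj', rfl⟩ := h'
    refine Subtype.ext ?_
    show (el i j c).1 * (el i j' c').1 = (el i j' c').1 * (el i j c).1
    rw [el_val hj, el_val hj']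
    exact key _ _ _ _ (by rw [dotProduct_smul, (orth_cases i j j' hj hj').1, smul_zero])
      (by rw [dotProduct_smul, (orth_cases i j j' hj hj').2, smul_zero])
  · obtain ⟨i, c, hi, rfl⟩ := h
    obtain ⟨i', c', hi', rfl⟩ := h'
    refine Subtype.ext ?_
    show (el i j c).1 * (el i' j c').1 = (el i' j c').1 * (el i j c).1
    rw [el_val hi, el_val hi']
    exact key _ _ _ _ (by rw [dotProduct_smul, dotProduct_comm, (inc_iff i' j).1 hi', smul_zero])
      (by rw [dotProduct_smul, dotProduct_comm, (inc_iff i j).1 hi, smul_zero])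

/-! ### The common centralizer of a clique -/

theorem span_of_perp : ∀ v u : Fin 3 → ZMod 3, v ≠ 0 →
    (∀ i : Fin 13, pt i ⬝ᵥ v = 0 → pt i ⬝ᵥ u = 0) → ∃ a : ZMod 3, u = a • v := by
  decide +kernel

theorem exists_dot_ne : ∀ v : Fin 3 → ZMod 3, v ≠ 0 → ∃ w, w ⬝ᵥ v ≠ 0 := by
  decide +kernel

theorem perp_exists : ∀ i : Fin 13, ∃ j, inc i j = true := by decide +kernel

theorem cube : ∀ l : ZMod 3, l ^ 3 = l := by decide

theorem comm_all {A : Matrix (Fin 3) (Fin 3) (ZMod 3)} (hdet : A.det = 1) (i : Fin 13)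
    (hA : ∀ j, inc i j = true → A * vecMulVec (pt i) (pt j) = vecMulVec (pt i) (pt j) * A) :
    A = 1 ∨ ∃ j c, inc i j = true ∧ A = M i j c := by
  obtain ⟨j₀, hj₀⟩ := perp_exists i
  have hne : ∀ k, pt k ≠ 0 := by decide +kernel
  obtain ⟨w, hw⟩ := exists_dot_ne _ (hne j₀)
  have e0 := congrArg (· *ᵥ w) (hA j₀ hj₀)
  simp only [← Matrix.mulVec_mulVec, vecMulVec_mulVec, op_smul_eq_smul, Matrix.mulVec_smul] at e0
  rw [dotProduct_comm] at e0
  -- `pt i` is an eigenvector
  obtain ⟨l, hl⟩ : ∃ l : ZMod 3, A *ᵥ pt i = l • pt i := by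
    refine ⟨(w ⬝ᵥ pt j₀)⁻¹ * (pt j₀ ⬝ᵥ (A *ᵥ w)), ?_⟩
    rw [← smul_smul, ← e0, smul_smul, inv_mul_cancel₀ hw, one_smul]
  -- the forms orthogonal to `pt i` kill `A - l`
  have hB : ∀ j, inc i j = true → ∀ x, pt j ⬝ᵥ ((A - l • 1) *ᵥ x) = 0 := by
    intro j hj x
    have e := congrArg (· *ᵥ x) (hA j hj)
    simp only [← Matrix.mulVec_mulVec, vecMulVec_mulVec, op_smul_eq_smul, Matrix.mulVec_smul, hl,
      smul_smul] at e
    have h0 : (pt j ⬝ᵥ x * l - pt j ⬝ᵥ (A *ᵥ x)) • pt i = 0 := by rw [sub_smul, e, sub_self]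
    rcases smul_eq_zero.1 h0 with h | h
    · rw [sub_mulVec, dotProduct_sub, smul_mulVec, one_mulVec, dotProduct_smul, smul_eq_mul,
        ← sub_eq_zero.1 h]
      ring
    · exact absurd h (hne i)
  have hcol : ∀ x, ∃ a : ZMod 3, (A - l • 1) *ᵥ x = a • pt i := fun x =>
    span_of_perp _ _ (hne i) fun k hk => hB k ((inc_iff i k).2 (by rw [dotProduct_comm]; exact hk)) x
  choose a ha using hcol
  set ψ : Fin 3 → ZMod 3 := fun k => a (Pi.single k 1) with hψ
  have hA' : A = l • 1 + vecMulVec (pt i) ψ := by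
    refine eq_add_of_sub_eq' (Matrix.ext fun r k => ?_)
    have := congrFun (ha (Pi.single k 1)) r
    rw [Matrix.mulVec_single_one] at this
    simpa [vecMulVec_apply, hψ, mul_comm] using this
  have hperp : ψ ⬝ᵥ pt i = 0 := by
    have h1 : A *ᵥ pt i = l • pt i + (ψ ⬝ᵥ pt i) • pt i := by
      rw [hA', add_mulVec, smul_mulVec, one_mulVec, vecMulVec_mulVec, op_smul_eq_smul]
    rw [hl, left_eq_add] at h1
    rcases smul_eq_zero.1 h1 with h | h
    · exact h
    · exact absurd h (hne i)
  have hl1 : l = 1 := by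
    by_cases hl0 : l = 0
    · exfalso
      rw [hA', hl0, zero_smul, zero_add, det_vecMulVec] at hdet
      exact zero_ne_one hdet
    · have h1 : A = (l • (1 : Matrix (Fin 3) (Fin 3) (ZMod 3))) *
          (1 + vecMulVec (pt i) (l⁻¹ • ψ)) := by
        rw [hA', mul_add, mul_one, smul_mul_assoc, one_mul, vecMulVec_smul,
          smul_smul, mul_inv_cancel₀ hl0, one_smul]
      rw [h1, det_mul, det_smul, det_one, mul_one, Fintype.card_fin, cube, vecMulVec_eq Unit,
        det_one_add_replicateCol_mul_replicateRow, smul_dotProduct, hperp, smul_zero, add_zero,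
        mul_one] at hdet
      exact hdet
  rw [hl1, one_smul] at hA'
  by_cases hψ0 : ψ = 0
  · left; rw [hA', hψ0]; simp
  · right
    obtain ⟨j, c, hc, e⟩ := exists_rep ψ hψ0
    have hij : inc i j = true := by
      rw [inc_iff]
      rw [e, smul_dotProduct, smul_eq_mul] at hperp
      rw [dotProduct_comm]
      exact (mul_eq_zero.1 hperp).resolve_left hc
    have hcs : ∀ c : ZMod 3, c ≠ 0 → ∃ c' : Fin 2, c = ((c'.val + 1 : ℕ) : ZMod 3) := by decide
    obtain ⟨c', rfl⟩ := hcs c hc
    exact ⟨j, c', hij, by rw [hA', e, M, smul_vecMulVec, vecMulVec_smul]⟩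

theorem M_eq (i j : Fin 13) : M i j 0 = 1 + vecMulVec (pt i) (pt j) := by
  simp [M]

theorem M_transpose (i j : Fin 13) (c : Fin 2) : (M i j c)ᵀ = M j i c := by
  simp [M, transpose_vecMulVec, smul_vecMulVec, vecMulVec_smul, op_smul_eq_smul]

theorem inc_symm : ∀ i j : Fin 13, inc i j = inc j i := by decide +kernel

theorem centralizer_inS {o : Obj} {g : SL33} (h : ∀ x, InS o x → Commute g x) :
    g = 1 ∨ InS o g := by
  rcases o with i | j
  · have hA : ∀ j, inc i j = true →
        g.1 * vecMulVec (pt i) (pt j) = vecMulVec (pt i) (pt j) * g.1 := fun j hj => by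
      have this : g.1 * (el i j 0).1 = (el i j 0).1 * g.1 :=
        congrArg Subtype.val (h (el i j 0) ⟨j, 0, hj, rfl⟩).eq
      rw [el_val hj, M_eq] at this
      simpa [mul_add, add_mul] using this
    rcases comm_all g.2 i hA with e | ⟨j, c, hj, e⟩
    · exact Or.inl (Subtype.ext (by rw [e]; rfl))
    · exact Or.inr ⟨j, c, hj, Subtype.ext (by rw [e, el_val hj])⟩
  · have hA : ∀ i, inc j i = true →
        g.1ᵀ * vecMulVec (pt j) (pt i) = vecMulVec (pt j) (pt i) * g.1ᵀ := fun i hi => by
      have hi' : inc i j = true := by rwa [inc_symm]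
      have this : g.1 * (el i j 0).1 = (el i j 0).1 * g.1 :=
        congrArg Subtype.val (h (el i j 0) ⟨i, 0, hi', rfl⟩).eq
      rw [el_val hi', M_eq] at this
      have h2 := congrArg Matrix.transpose this
      simp only [transpose_mul, transpose_add, transpose_one, transpose_vecMulVec] at h2
      simpa [mul_add, add_mul] using h2.symm
    rcases comm_all (A := g.1ᵀ) (by rw [det_transpose]; exact g.2) j hA with e | ⟨i, c, hi, e⟩
    · exact Or.inl (Subtype.ext (by rw [← transpose_transpose g.1, e, transpose_one]; rfl))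
    · refine Or.inr ⟨i, c, by rwa [inc_symm], Subtype.ext ?_⟩
      rw [el_val (by rwa [inc_symm]), ← transpose_transpose g.1, e, M_transpose]

end CfsgLib.CommGraph
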