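import Cfsg.Agent.Lib.CommGraph.PSLThreeThree

/-!
A group whose commuting graph is that of `SL(3, 3)` is isomorphic to `SL(3, 3)`: it acts on the
twenty-six cliques as the collineation group of the plane.
-/

set_option autoImplicit false

namespace CfsgLib.CommGraph

open Matrix

theorem natCard_SL33 : Nat.card SL33 = 5616 := by
  have h := CfsgLib.Classical.sub_one_mul_card_SL (F := ZMod 3) (n := 3) (by norm_num)
  norm_num [Fin.prod_univ_three, ZMod.card] at h
  simp only [← Nat.card_eq_fintype_card] at h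
  change Nat.card (Matrix.SpecialLinearGroup (Fin 3) (ZMod 3)) = 5616
  omega

theorem center_SL33 : Subgroup.center SL33 = ⊥ := by
  refine (Subgroup.eq_bot_iff_forall _).2 fun g hg => ?_
  obtain ⟨r, hr, e⟩ := Matrix.SpecialLinearGroup.mem_center_iff.1 hg
  have h1 : ∀ r : ZMod 3, r ^ 3 = 1 → r = 1 := by decide
  rw [Fintype.card_fin] at hr
  refine Subtype.ext ?_
  rw [← e, h1 r hr]
  simp

/-- `SL(3, 3)` is its own central quotient. -/
noncomputable def pslEquiv : Matrix.ProjectiveSpecialLinearGroup (Fin 3) (ZMod 3) ≃* SL33 :=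
  (QuotientGroup.quotientMulEquivOfEq center_SL33).trans QuotientGroup.quotientBot

theorem simple_SL33 : IsSimpleGroup SL33 := by
  have := CfsgLib.Classical.isSimpleGroup_PSL (ι := Fin 3) (F := ZMod 3) (Or.inl (by simp))
  exact pslEquiv.symm.isSimpleGroup

/-! ### Conjugates of transvections -/

theorem mk_form (i : Fin 13) {s : ZMod 3} (hs : s ≠ 0) {ψ : Fin 3 → ZMod 3} (hψ : ψ ≠ 0)
    (h : ψ ⬝ᵥ pt i = 0) : ∃ j c, inc i j = true ∧ 1 + vecMulVec (s • pt i) ψ = M i j c := by
  obtain ⟨j, d, hd, rfl⟩ := exists_rep ψ hψ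
  have hcs : ∀ c : ZMod 3, c ≠ 0 → ∃ c' : Fin 2, c = ((c'.val + 1 : ℕ) : ZMod 3) := by decide
  obtain ⟨c, hc⟩ := hcs (s * d) (mul_ne_zero hs hd)
  refine ⟨j, c, ?_, ?_⟩
  · rw [smul_dotProduct, smul_eq_mul] at h
    rw [inc_iff, dotProduct_comm]
    exact (mul_eq_zero.1 h).resolve_left hd
  · rw [M, ← hc, vecMulVec_smul, smul_vecMulVec, smul_vecMulVec, smul_smul, mul_comm d s]

theorem conj_el (h : SL33) {i j : Fin 13} (hij : inc i j = true) (c : Fin 2) :
    ∃ i' j' c', inc i' j' = true ∧ h * el i j c * h⁻¹ = el i' j' c' ∧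
      (h.1 *ᵥ pt i = pt i → i' = i) := by
  set s : ZMod 3 := ((c.val + 1 : ℕ) : ZMod 3) with hs_def
  have hs : s ≠ 0 := by
    revert c; decide
  set a := h.1 *ᵥ pt i with ha_def
  set b := pt j ᵥ* (h⁻¹).1 with hb_def
  have hl : (h⁻¹).1 * h.1 = 1 := congrArg Subtype.val (inv_mul_cancel h)
  have hr : h.1 * (h⁻¹).1 = 1 := congrArg Subtype.val (mul_inv_cancel h)
  have hne : ∀ k, pt k ≠ 0 := by decide +kernel
  have ha : a ≠ 0 := fun e => hne i (by
    have := congrArg ((h⁻¹).1 *ᵥ ·) e
    rwa [ha_def, mulVec_zero, mulVec_mulVec, hl, one_mulVec] at this)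
  have hb : b ≠ 0 := fun e => hne j (by
    have := congrArg (· ᵥ* h.1) e
    rwa [hb_def, zero_vecMul, vecMul_vecMul, hl, vecMul_one] at this)
  have hba : b ⬝ᵥ a = 0 := by
    rw [hb_def, ha_def, ← dotProduct_mulVec, mulVec_mulVec, hl, one_mulVec, dotProduct_comm]
    exact (inc_iff i j).1 hij
  have e : (h * el i j c * h⁻¹).1 = 1 + vecMulVec (s • a) b := by
    show h.1 * (el i j c).1 * (h⁻¹).1 = _
    rw [el_val hij, M, mul_add, mul_one, add_mul, hr, Matrix.mul_vecMulVec, Matrix.vecMulVec_mul,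
      mulVec_smul]
  by_cases hfix : a = pt i
  · rw [hfix] at e hba
    obtain ⟨j', c', h1, h2⟩ := mk_form i hs hb hba
    exact ⟨i, j', c', h1, Subtype.ext (by rw [e, h2, el_val h1]), fun _ => rfl⟩
  · obtain ⟨i', t, ht, ht'⟩ := exists_rep a ha
    rw [ht', dotProduct_smul, smul_eq_mul] at hba
    obtain ⟨j', c', h1, h2⟩ := mk_form i' (mul_ne_zero hs ht) hb
      ((mul_eq_zero.1 hba).resolve_left ht)
    refine ⟨i', j', c', h1, Subtype.ext ?_, fun e' => absurd e' hfix⟩
    rw [e, el_val h1, ← h2, ht', smul_smul]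

theorem isTv_conj (h : SL33) {g : SL33} (hg : IsTv g) : IsTv (h * g * h⁻¹) := by
  obtain ⟨i, j, c, hij, rfl⟩ := hg
  obtain ⟨i', j', c', h1, h2, -⟩ := conj_el h hij c
  exact ⟨i', j', c', h1, h2⟩

theorem el_ne_one {i j : Fin 13} (hij : inc i j = true) (c : Fin 2) : el i j c ≠ 1 := by
  intro e
  have h1 : M i j c = 1 := by rw [← el_val hij, e]; rfl
  have : ∀ i j c, inc i j = true → ∃ a b, ent i j c a b ≠ if a = b then 1 else 0 := by
    decide +kernel
  obtain ⟨a, b, hab⟩ := this i j c hij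
  refine hab ?_
  have h2 := congrFun (congrFun h1 a) b
  rw [M_apply, Matrix.one_apply] at h2
  have h3 : ∀ n : ℕ, n < 3 → ((n : ZMod 3) = 1 ↔ n = 1) ∧ ((n : ZMod 3) = 0 ↔ n = 0) := by decide
  obtain ⟨h4, h5⟩ := h3 _ (ent_lt i j c a b)
  split_ifs at h2 ⊢
  · exact h4.1 h2
  · exact h5.1 h2

theorem IsTv.ne_one {g : SL33} (hg : IsTv g) : g ≠ 1 := by
  obtain ⟨i, j, c, hij, rfl⟩ := hg
  exact el_ne_one hij c

/-! ### The subgroups of order nine -/

/-- The common centralizer of a clique. -/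
def elemGrp (o : Obj) : Subgroup SL33 := Subgroup.centralizer {g | InS o g}

theorem mem_elemGrp {o : Obj} {g : SL33} : g ∈ elemGrp o ↔ g = 1 ∨ InS o g := by
  refine ⟨fun h => centralizer_inS fun x hx => (Subgroup.mem_centralizer_iff.1 h x hx).symm, ?_⟩
  rintro (rfl | h)
  · exact one_mem _
  · exact Subgroup.mem_centralizer_iff.2 fun x hx => commute_of_inS hx h

theorem natCard_elemGrp (o : Obj) : Nat.card (elemGrp o) = 9 := by
  have e : (elemGrp o : Set SL33) = insert 1 {g | InS o g} := by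
    ext g; simp [mem_elemGrp]
  rw [← SetLike.coe_sort_coe, Nat.card_coe_set_eq, e, Set.ncard_insert_of_notMem
    (s := {g | InS o g}) (a := (1 : SL33)) (fun h => (isTv_of_inS (o := o) h).ne_one rfl)
    (Set.toFinite _), ncard_inS]

theorem isPGroup_elemGrp (o : Obj) : IsPGroup 3 (elemGrp o) :=
  IsPGroup.of_card (n := 2) (natCard_elemGrp o)

instance : Fact (Nat.Prime 3) := ⟨by norm_num⟩

theorem isTv_of_dvd {g : SL33} (hg : g ≠ 1)
    (hd : 27 ∣ Nat.card (Subgroup.centralizer ({g} : Set SL33))) : IsTv g := by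
  obtain ⟨P₀, hP₀⟩ := (isPGroup_elemGrp (.inl 0)).exists_le_sylow
  obtain ⟨Q, hQ⟩ := Sylow.exists_subgroup_card_pow_prime 3 (n := 3)
    (G := Subgroup.centralizer ({g} : Set SL33)) (by norm_num; exact hd)
  set Q' := Q.map (Subgroup.centralizer ({g} : Set SL33)).subtype with hQ'
  have hcard : Nat.card Q' = 3 ^ 3 := by
    rw [hQ', Subgroup.card_map_of_injective (Subgroup.subtype_injective _), hQ]
  have hfac : (5616 : ℕ).factorization 3 = 3 := by
    rw [show (5616 : ℕ) = 3 ^ 3 * 208 by norm_num, Nat.factorization_mul (by norm_num) (by norm_num),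
      Finsupp.add_apply, Nat.Prime.factorization_pow (by norm_num), Finsupp.single_eq_same,
      Nat.factorization_eq_zero_of_not_dvd (by norm_num)]
  set P : Sylow 3 SL33 := Sylow.ofCard Q' (by rw [hcard, natCard_SL33, hfac]) with hPdef
  obtain ⟨x, hx⟩ := MulAction.exists_smul_eq SL33 P₀ P
  have hmem : ∀ y ∈ elemGrp (.inl 0), x * y * x⁻¹ ∈ Subgroup.centralizer ({g} : Set SL33) := by
    intro y hy
    have h1 : x * y * x⁻¹ ∈ ((x • P₀ : Sylow 3 SL33) : Subgroup SL33) :=
      ⟨y, hP₀ hy, rfl⟩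
    rw [hx, hPdef, Sylow.coe_ofCard] at h1
    obtain ⟨q, -, hq⟩ := h1
    rw [← hq]
    exact q.2
  have h2 : x⁻¹ * g * x ∈ elemGrp (.inl 0) := by
    refine Subgroup.mem_centralizer_iff.2 fun y hy => ?_
    have := Subgroup.mem_centralizer_singleton_iff.1 (hmem y (mem_elemGrp.2 (Or.inr hy)))
    calc y * (x⁻¹ * g * x) = x⁻¹ * (x * y * x⁻¹ * g) * x := by group
      _ = x⁻¹ * (g * (x * y * x⁻¹)) * x := by rw [this]
      _ = (x⁻¹ * g * x) * y := by group
  rcases mem_elemGrp.1 h2 with h3 | h3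
  · exact absurd (by
      calc g = x * (x⁻¹ * g * x) * x⁻¹ := by group
        _ = 1 := by rw [h3]; group) hg
  · have := isTv_conj x (isTv_of_inS h3)
    rwa [show x * (x⁻¹ * g * x) * x⁻¹ = g by group] at this

theorem dvd_of_isTv {g : SL33} (hg : IsTv g) :
    27 ∣ Nat.card (Subgroup.centralizer ({g} : Set SL33)) := by
  obtain ⟨i, j, c, hij, rfl⟩ := hg
  have hnorm : elemGrp (.inr j) ≤ Subgroup.normalizer (elemGrp (.inl i) : Set SL33) := by
    have key : ∀ x ∈ elemGrp (.inr j), ∀ y ∈ elemGrp (.inl i), x * y * x⁻¹ ∈ elemGrp (.inl i) := by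
      intro x hx y hy
      rcases mem_elemGrp.1 hy with rfl | ⟨j', c', hj', rfl⟩
      · simp
      obtain ⟨i'', j'', c'', h1, h2, h3⟩ := conj_el x hj' c'
      have hv : x.1 *ᵥ pt i = pt i := by
        rcases mem_elemGrp.1 hx with rfl | ⟨i', c₁, hi', rfl⟩
        · exact one_mulVec _
        · rw [el_val hi', M, add_mulVec, one_mulVec, vecMulVec_mulVec, dotProduct_comm,
            (inc_iff i j).1 hij]
          simp
      obtain rfl := h3 hv
      exact mem_elemGrp.2 (Or.inr ⟨j'', c'', h1, h2⟩)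
    intro x hx
    refine Subgroup.mem_normalizer_iff.2 fun y => ⟨fun hy => key x hx y hy, fun hy => ?_⟩
    have := key x⁻¹ (inv_mem hx) _ hy
    simpa [mul_assoc] using this
  have hp : IsPGroup 3 ↥(elemGrp (.inl i) ⊔ elemGrp (.inr j)) :=
    IsPGroup.to_sup_of_normal_left' (isPGroup_elemGrp _) (isPGroup_elemGrp _) hnorm
  have hlt : elemGrp (.inl i) < elemGrp (.inl i) ⊔ elemGrp (.inr j) := by
    refine lt_of_le_of_ne le_sup_left fun e => ?_
    have hex : ∀ i j : Fin 13, ∃ i', i' ≠ i ∧ inc i' j = true := by decide +kernel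
    obtain ⟨i', hne, hi'⟩ := hex i j
    have h1 : el i' j 0 ∈ elemGrp (.inl i) := by
      rw [e]; exact Subgroup.mem_sup_right (mem_elemGrp.2 (Or.inr ⟨i', 0, hi', rfl⟩))
    rcases mem_elemGrp.1 h1 with h2 | ⟨j', c', hj', h2⟩
    · exact el_ne_one hi' 0 h2
    · exact hne (el_inj hi' hj' h2).1
  obtain ⟨n, hn⟩ := IsPGroup.iff_card.1 hp
  have h9 : 9 < 3 ^ n := by
    rw [← hn, ← natCard_elemGrp (.inl i)]
    exact lt_of_le_of_ne (Subgroup.card_le_of_le hlt.le) fun e =>
      hlt.ne (Subgroup.eq_of_le_of_card_ge hlt.le e.ge)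
  have hn3 : 3 ≤ n := by
    by_contra hlt'
    have : 3 ^ n ≤ 3 ^ 2 := Nat.pow_le_pow_right (by norm_num) (by omega)
    omega
  have hle : elemGrp (.inl i) ⊔ elemGrp (.inr j) ≤ Subgroup.centralizer ({el i j c} : Set SL33) := by
    refine sup_le (fun y hy => ?_) (fun y hy => ?_) <;> rw [Subgroup.mem_centralizer_singleton_iff]
    · exact (Subgroup.mem_centralizer_iff.1 hy _ ⟨j, c, hij, rfl⟩).symm
    · exact (Subgroup.mem_centralizer_iff.1 hy _ ⟨i, c, hij, rfl⟩).symm
  refine (?_ : 27 ∣ 3 ^ n).trans (hn ▸ Subgroup.card_dvd_of_le hle)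
  exact (show (27 : ℕ) = 3 ^ 3 by norm_num) ▸ pow_dvd_pow 3 hn3

theorem clique_subset {A : Set SL33} (hne : A.Nonempty) (hT : ∀ a ∈ A, IsTv a)
    (hc : ∀ a ∈ A, ∀ b ∈ A, Commute a b) : ∃ o, A ⊆ {g | InS o g} := by
  obtain ⟨a, ha⟩ := hne
  obtain ⟨i, j, c, hij, rfl⟩ := hT a ha
  have share : ∀ {i j c i' j' c'}, inc i j = true → inc i' j' = true → el i j c ∈ A →
      el i' j' c' ∈ A → i = i' ∨ j = j' := by
    intro i j c i' j' c' h h' m m'
    have e : (el i j c).1 * (el i' j' c').1 = (el i' j' c').1 * (el i j c).1 :=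
      congrArg Subtype.val (hc _ m _ m').eq
    rw [el_val h, el_val h'] at e
    exact eq_or_eq_of_commute h h' e
  by_cases hall : A ⊆ {g | InS (.inl i) g}
  · exact ⟨_, hall⟩
  obtain ⟨b, hb, hbn⟩ := Set.not_subset.1 hall
  obtain ⟨i', j', c', hij', rfl⟩ := hT b hb
  have hi : i' ≠ i := fun e => hbn (e ▸ ⟨j', c', e ▸ hij', rfl⟩)
  obtain rfl : j = j' := (share hij hij' ha hb).resolve_left (Ne.symm hi)
  refine ⟨.inr j, fun x hx => ?_⟩
  obtain ⟨i₂, j₂, c₂, h₂, rfl⟩ := hT x hx
  have hj : j₂ = j := by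
    by_contra hne'
    exact hi (((share hij' h₂ hb hx).resolve_right (Ne.symm hne')).trans
      ((share hij h₂ ha hx).resolve_right (Ne.symm hne')).symm)
  subst hj
  exact ⟨i₂, c₂, h₂, rfl⟩

theorem meet_iff {o o' : Obj} : (o ≠ o' ∧ ∃ g, InS o g ∧ InS o' g) ↔ Adj o o' = true := by
  rcases o with i | j <;> rcases o' with i' | j'
  · simp only [Adj, Bool.false_eq_true, iff_false, not_and, not_exists]
    rintro hne g ⟨j, c, h, rfl⟩ ⟨j', c', h', e⟩
    exact hne (congrArg _ (el_inj h h' e).1)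
  · simp only [Adj]
    constructor
    · rintro ⟨-, g, ⟨j, c, h, rfl⟩, ⟨i', c', h', e⟩⟩
      obtain ⟨rfl, rfl, -⟩ := el_inj h h' e
      exact h
    · exact fun h => ⟨Sum.inl_ne_inr, el i j' 0, ⟨j', 0, h, rfl⟩, ⟨i, 0, h, rfl⟩⟩
  · simp only [Adj]
    constructor
    · rintro ⟨-, g, ⟨i, c, h, rfl⟩, ⟨j', c', h', e⟩⟩
      obtain ⟨rfl, rfl, -⟩ := el_inj h h' e
      exact h
    · exact fun h => ⟨Sum.inr_ne_inl, el i' j 0, ⟨i', 0, h, rfl⟩, ⟨j, 0, h, rfl⟩⟩
  · simp only [Adj, Bool.false_eq_true, iff_false, not_and, not_exists]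
    rintro hne g ⟨i, c, h, rfl⟩ ⟨i', c', h', e⟩
    exact hne (congrArg _ (el_inj h h' e).2.1)

theorem sset_injective {o o' : Obj} (h : ∀ g, InS o g ↔ InS o' g) : o = o' := by
  by_contra hne
  obtain ⟨g, hg⟩ : {g | InS o g}.Nonempty := Set.nonempty_of_ncard_ne_zero (by rw [ncard_inS]; norm_num)
  have hA := meet_iff.1 ⟨hne, g, hg, (h g).1 hg⟩
  obtain ⟨z, hz1, -⟩ := common o o rfl
  -- a second neighbour of `o`
  have h2 : ∀ o o' : Obj, Adj o o' = true → ∃ z, z ≠ o' ∧ Adj o z = true := by decide +kernel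
  obtain ⟨z, hzne, hz⟩ := h2 o o' hA
  obtain ⟨-, x, hx, hxz⟩ := meet_iff.2 hz
  have hA' := meet_iff.1 ⟨hzne, x, hxz, (h x).1 hx⟩
  exact side_ne_of_adj hA' (by
    have h1 := side_ne_of_adj hA
    have h3 := side_ne_of_adj hz
    revert h1 h3
    cases side o <;> cases side o' <;> cases side z <;> simp)

theorem eq_one_of_commute_all {g : SL33} (h : ∀ x, IsTv x → Commute g x) : g = 1 := by
  rcases centralizer_inS (o := .inl 0) fun x hx => h x (isTv_of_inS hx) with e | h1
  · exact e
  rcases centralizer_inS (o := .inl 1) fun x hx => h x (isTv_of_inS hx) with e | h2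
  · exact e
  exact absurd (meet_iff.1 ⟨by decide, g, h1, h2⟩) (by decide +kernel)

/-! ### The action of a group with the same graph -/

section Graph

variable {H : Type*} [Group H] (e : H ≃ SL33) (he : e 1 = 1)
  (hc : ∀ x y : H, Commute x y ↔ Commute (e x) (e y))

/-- Conjugation, carried to `SL(3, 3)`. -/
def sigma (h : H) : Equiv.Perm SL33 := (e.symm.trans (MulAut.conj h).toEquiv).trans e

theorem sigma_mul (h h' : H) : sigma e (h * h') = sigma e h * sigma e h' := by
  ext g : 1
  simp [sigma, mul_assoc]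

theorem sigma_one : sigma e (1 : H) = 1 := by
  ext g : 1
  simp [sigma]

include hc in
theorem sigma_commute (h : H) (x y : SL33) :
    Commute (sigma e h x) (sigma e h y) ↔ Commute x y := by
  have h1 := hc (e.symm x) (e.symm y)
  rw [e.apply_symm_apply, e.apply_symm_apply] at h1
  simp only [sigma, Equiv.trans_apply, ← hc, ← h1]
  constructor
  · intro k
    have := k.map (MulAut.conj h⁻¹)
    simpa [mul_assoc] using this
  · exact fun k => k.map (MulAut.conj h)

include he hc in
theorem sigma_isTv (h : H) {g : SL33} (hg : IsTv g) : IsTv (sigma e h g) := by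
  refine isTv_of_dvd (fun e1 => hg.ne_one ?_) ?_
  · apply (sigma e h).injective
    rw [e1, sigma]
    simp [← he]
  · refine (dvd_of_isTv hg).trans (dvd_of_eq (Nat.card_congr ?_))
    refine (sigma e h).subtypeEquiv fun x => ?_
    simp only [Subgroup.mem_centralizer_singleton_iff]
    exact (sigma_commute e hc h x g).symm

include he hc in
theorem exists_image (h : H) (o : Obj) :
    ∃ o', ∀ g, InS o' g ↔ ∃ x, InS o x ∧ sigma e h x = g := by
  obtain ⟨o', ho'⟩ := clique_subset (A := sigma e h '' {g | InS o g})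
    (Set.Nonempty.image _ (Set.nonempty_of_ncard_ne_zero (by rw [ncard_inS]; norm_num)))
    (by rintro _ ⟨x, hx, rfl⟩; exact sigma_isTv e he hc h (isTv_of_inS hx))
    (by
      rintro _ ⟨x, hx, rfl⟩ _ ⟨y, hy, rfl⟩
      exact (sigma_commute e hc h x y).2 (commute_of_inS hx hy))
  refine ⟨o', fun g => ?_⟩
  have := Set.eq_of_subset_of_ncard_le ho'
    (by rw [ncard_inS, Set.ncard_image_of_injective _ (sigma e h).injective, ncard_inS]) (Set.toFinite _)
  exact (Set.ext_iff.1 this g).symm

/-- The image of a clique. -/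
noncomputable def act (h : H) (o : Obj) : Obj := (exists_image e he hc h o).choose

theorem inS_act {h : H} {o : Obj} {g : SL33} :
    InS (act e he hc h o) g ↔ ∃ x, InS o x ∧ sigma e h x = g :=
  (exists_image e he hc h o).choose_spec g

theorem act_mul (h h' : H) (o : Obj) :
    act e he hc (h * h') o = act e he hc h (act e he hc h' o) := by
  refine sset_injective fun g => ?_
  simp only [inS_act, sigma_mul, Equiv.Perm.mul_apply]
  exact ⟨fun ⟨x, hx, e1⟩ => ⟨_, ⟨x, hx, rfl⟩, e1⟩, fun ⟨_, ⟨x, hx, e1⟩, e2⟩ => ⟨x, hx, e1 ▸ e2⟩⟩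

theorem act_one (o : Obj) : act e he hc 1 o = o := by
  refine sset_injective fun g => ?_
  simp only [inS_act, sigma_one, Equiv.Perm.one_apply]
  exact ⟨fun ⟨x, hx, e1⟩ => e1 ▸ hx, fun h => ⟨g, h, rfl⟩⟩

/-- The action on the cliques. -/
noncomputable def actHom : H →* Equiv.Perm Obj where
  toFun h := ⟨act e he hc h, act e he hc h⁻¹,
    fun o => by rw [← act_mul, inv_mul_cancel, act_one],
    fun o => by rw [← act_mul, mul_inv_cancel, act_one]⟩
  map_one' := by ext o : 1; exact act_one e he hc o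
  map_mul' h h' := by ext o : 1; exact act_mul e he hc h h' o

theorem actHom_adj (h : H) (o o' : Obj) :
    Adj (actHom e he hc h o) (actHom e he hc h o') = Adj o o' := by
  refine Bool.eq_iff_iff.2 ?_
  rw [← meet_iff, ← meet_iff, (actHom e he hc h).injective.ne_iff]
  refine and_congr_right fun _ => ?_
  show (∃ g, InS (act e he hc h o) g ∧ InS (act e he hc h o') g) ↔ _
  simp only [inS_act]
  constructor
  · rintro ⟨g, ⟨x, hx, e1⟩, ⟨y, hy, e2⟩⟩
    obtain rfl := (sigma e h).injective (e1.trans e2.symm)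
    exact ⟨x, hx, hy⟩
  · rintro ⟨x, hx, hy⟩
    exact ⟨_, ⟨x, hx, rfl⟩, ⟨x, hy, rfl⟩⟩

theorem actHom_injective : Function.Injective (actHom e he hc) := by
  rw [← MonoidHom.ker_eq_bot_iff, Subgroup.eq_bot_iff_forall]
  have hback : ∀ g : H, e g = 1 → g = 1 := fun g hg => e.injective (hg.trans he.symm)
  have hfix : ∀ h ∈ (actHom e he hc).ker, ∀ o x, InS o x → InS o (sigma e h x) := by
    intro h hh o x hx
    have h1 : act e he hc h o = o := by
      have := Equiv.ext_iff.1 (MonoidHom.mem_ker.1 hh) o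
      exact this
    have h2 := (inS_act e he hc (h := h) (o := o)).2 ⟨x, hx, rfl⟩
    rwa [h1] at h2
  have hsq : ∀ h ∈ (actHom e he hc).ker, h * h = 1 := by
    intro h hh
    refine hback _ (eq_one_of_commute_all fun x hx => ?_)
    obtain ⟨i, j, c, hij, rfl⟩ := hx
    have hpair : ∀ c, ∃ c', sigma e h (el i j c) = el i j c' := fun c => by
      obtain ⟨j', c', h1, e1⟩ := hfix h hh (.inl i) _ ⟨j, c, hij, rfl⟩
      obtain ⟨i', c'', h2, e2⟩ := hfix h hh (.inr j) _ ⟨i, c, hij, rfl⟩
      obtain ⟨-, rfl, rfl⟩ := el_inj h1 h2 (e1.symm.trans e2)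
      exact ⟨c', e1⟩
    have h2 : sigma e (h * h) (el i j c) = el i j c := by
      rw [sigma_mul, Equiv.Perm.mul_apply]
      obtain ⟨c', hc'⟩ := hpair c
      obtain ⟨c'', hc''⟩ := hpair c'
      rw [hc', hc'']
      have hne : c' ≠ c → c'' ≠ c' := fun hne e3 => hne
        (el_inj hij hij ((sigma e h).injective (by rw [hc', hc'', e3]))).2.2.symm
      by_cases e4 : c' = c
      · subst e4; rw [← hc', hc'']
      · have h4 := hne e4
        congr 1
        revert e4 h4
        fin_cases c <;> fin_cases c' <;> fin_cases c'' <;> simp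
    have h3 : Commute (h * h) (e.symm (el i j c)) := by
      have := congrArg e.symm h2
      simp only [sigma, Equiv.trans_apply, e.symm_apply_apply] at this
      exact mul_inv_eq_iff_eq_mul.1 this
    have := (hc _ _).1 h3
    rwa [e.apply_symm_apply] at this
  intro h hh
  refine hback _ (eq_one_of_commute_all fun x hx => ?_)
  obtain ⟨i, j, c, hij, rfl⟩ := hx
  set y := e.symm (el i j c) with hy
  set E : Subgroup H := Subgroup.centralizer (e.symm '' {g | InS (.inl i) g}) with hE
  have hEmem : ∀ g, g ∈ E ↔ e g ∈ elemGrp (.inl i) := fun g => by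
    simp only [hE, elemGrp, Subgroup.mem_centralizer_iff, Set.forall_mem_image]
    refine forall₂_congr fun x _ => ?_
    have := hc (e.symm x) g
    rwa [e.apply_symm_apply] at this
  have hcardE : Nat.card E = 9 :=
    (Nat.card_congr (e.subtypeEquiv hEmem)).trans (natCard_elemGrp _)
  have hy1 : y ∈ E := (hEmem y).2 (by
    rw [hy, e.apply_symm_apply]; exact mem_elemGrp.2 (Or.inr ⟨j, c, hij, rfl⟩))
  have hy2 : h * y * h⁻¹ ∈ E := (hEmem _).2 (mem_elemGrp.2 (Or.inr
    (hfix h hh (.inl i) _ ⟨j, c, hij, rfl⟩)))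
  set k := h * y * h⁻¹ * y⁻¹ with hk
  have hkE : k ∈ E := mul_mem hy2 (inv_mem hy1)
  have hkK : k ∈ (actHom e he hc).ker := by
    rw [hk, mul_assoc h y, mul_assoc h]
    refine mul_mem hh ?_
    exact (MonoidHom.normal_ker _).conj_mem _ (inv_mem hh) y
  have h9 : k ^ 9 = 1 := by
    have := congrArg Subtype.val (pow_card_eq_one' (x := (⟨k, hkE⟩ : E)))
    rwa [hcardE] at this
  have hk1 : k = 1 := by
    rw [show k ^ 9 = (k * k) ^ 4 * k by rw [← pow_two, ← pow_mul, ← pow_succ], hsq k hkK,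
      one_pow, one_mul] at h9
    exact h9
  have h3 : Commute h y := by
    rw [hk] at hk1
    exact mul_inv_eq_iff_eq_mul.1 (mul_inv_eq_one.1 hk1)
  have := (hc _ _).1 h3
  rwa [hy, e.apply_symm_apply] at this

theorem side_dichotomy (h : H) : (∀ o, side (actHom e he hc h o) = side o) ∨
    ∀ o, side (actHom e he hc h o) ≠ side o := by
  set π := actHom e he hc h
  have hadj := actHom_adj e he hc h
  have same : ∀ o o', side o = side o' → side (π o) = side (π o') := by
    intro o o' hs
    obtain ⟨z, hz, hz'⟩ := common o o' hs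
    rw [← hadj] at hz hz'
    have h1 := side_ne_of_adj hz
    have h2 := side_ne_of_adj hz'
    revert h1 h2
    cases side (π o) <;> cases side (π o') <;> cases side (π z) <;> simp
  have opp : ∀ o o', side o ≠ side o' → side (π o) ≠ side (π o') := by
    intro o o' hs
    obtain ⟨z, hz, -⟩ := common o o rfl
    have h1 := side_ne_of_adj hz
    have h2 : side z = side o' := by
      revert h1 hs; cases side o <;> cases side o' <;> cases side z <;> simp
    rw [← same z o' h2]
    rw [← hadj] at hz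
    exact side_ne_of_adj hz
  by_cases h0 : side (π (.inl 0)) = side (.inl 0)
  · refine Or.inl fun o => ?_
    by_cases hs : side o = side (.inl 0)
    · rw [same o _ hs, h0, hs]
    · have := opp o _ hs
      rw [h0] at this
      revert this hs
      cases side (π o) <;> cases side o <;> simp [side]
  · refine Or.inr fun o => ?_
    by_cases hs : side o = side (.inl 0)
    · rwa [same o _ hs, hs]
    · have := opp o _ hs
      revert this hs h0
      cases side (π o) <;> cases side o <;> cases side (π (.inl 0)) <;> simp [side]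

/-- The elements preserving both sides. -/
noncomputable def evenPart : Subgroup H := autSub.comap (actHom e he hc)

theorem index_evenPart : (evenPart e he hc).index = 1 ∨ (evenPart e he hc).index = 2 := by
  have hmem : ∀ h, h ∈ evenPart e he hc ↔ ∀ o, side (actHom e he hc h o) = side o := fun h =>
    ⟨fun k => k.1, fun k => ⟨k, actHom_adj e he hc h⟩⟩
  by_cases hall : ∀ h, h ∈ evenPart e he hc
  · exact Or.inl (Subgroup.index_eq_one.2 (Subgroup.eq_top_iff' _ |>.2 hall))
  · right
    obtain ⟨a, ha⟩ := not_forall.1 hall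
    have ha' := (side_dichotomy e he hc a).resolve_left fun k => ha ((hmem a).2 k)
    refine Subgroup.index_eq_two_iff.2 ⟨a, fun b => ?_⟩
    rcases side_dichotomy e he hc b with hb | hb
    · refine Or.inr ⟨(hmem b).2 hb, fun k => ?_⟩
      have := (hmem _).1 k (.inl 0)
      rw [map_mul, Equiv.Perm.mul_apply, hb] at this
      exact ha' _ this
    · refine Or.inl ⟨(hmem _).2 fun o => ?_, fun k => hb (.inl 0) ((hmem b).1 k _)⟩
      rw [map_mul, Equiv.Perm.mul_apply]
      have h1 := hb (actHom e he hc a o)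
      have h2 := ha' o
      revert h1 h2
      cases side (actHom e he hc b (actHom e he hc a o)) <;>
        cases side (actHom e he hc a o) <;> cases side o <;> simp

theorem natCard_le_image [Finite H] :
    Nat.card ((evenPart e he hc).map (actHom e he hc)) = Nat.card (evenPart e he hc) :=
  Subgroup.card_map_of_injective (actHom_injective e he hc)

theorem image_le : (evenPart e he hc).map (actHom e he hc) ≤ autSub :=
  Subgroup.map_comap_le _ _

end Graph

theorem eq_top_of_index_le_two {G : Type*} [Group G] [Finite G] (hs : IsSimpleGroup G)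
    (hG : 2 < Nat.card G) {K : Subgroup G} (hK : K.index = 1 ∨ K.index = 2) : K = ⊤ := by
  rcases hK with h | h
  · exact Subgroup.index_eq_one.1 h
  · have := Subgroup.normal_of_index_eq_two h
    rcases hs.eq_bot_or_eq_top_of_normal K this with h1 | h1
    · rw [h1, Subgroup.index_bot] at h; omega
    · exact h1

theorem range_eq {H : Type*} [Group H] [Finite H] (e : H ≃ SL33) (he : e 1 = 1)
    (hc : ∀ x y : H, Commute x y ↔ Commute (e x) (e y)) (hs : IsSimpleGroup ↥autSub)
    (hcard : Nat.card autSub = 5616) : (actHom e he hc).range = autSub := by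
  have hH : Nat.card H = 5616 := (Nat.card_congr e).trans natCard_SL33
  have h1 := (evenPart e he hc).index_mul_card
  rw [hH] at h1
  have hsub : ((evenPart e he hc).map (actHom e he hc)).subgroupOf autSub = ⊤ := by
    refine eq_top_of_index_le_two hs (by omega) ?_
    have h2 := (((evenPart e he hc).map (actHom e he hc)).subgroupOf autSub).index_mul_card
    rw [Nat.card_congr (Subgroup.subgroupOfEquivOfLe (image_le e he hc)).toEquiv,
      natCard_le_image e he hc, hcard] at h2
    rcases index_evenPart e he hc with h | h <;> rw [h] at h1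
    · left
      rw [show Nat.card (evenPart e he hc) = 5616 by omega] at h2
      omega
    · right
      rw [show Nat.card (evenPart e he hc) = 2808 by omega] at h2
      omega
  have hle : autSub ≤ (evenPart e he hc).map (actHom e he hc) := Subgroup.subgroupOf_eq_top.1 hsub
  have htop : evenPart e he hc = ⊤ := by
    refine Subgroup.eq_top_of_card_eq _ ?_
    rw [hH, ← hcard, ← natCard_le_image e he hc, le_antisymm (image_le e he hc) hle]
  rw [MonoidHom.range_eq_map, ← htop]
  exact le_antisymm (image_le e he hc) hle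

theorem model_range : (actHom (Equiv.refl SL33) rfl fun _ _ => Iff.rfl).range = autSub := by
  set e := Equiv.refl SL33
  have hc : ∀ x y : SL33, Commute x y ↔ Commute (e x) (e y) := fun _ _ => Iff.rfl
  have htop : evenPart e rfl hc = ⊤ :=
    eq_top_of_index_le_two simple_SL33 (by rw [natCard_SL33]; norm_num) (index_evenPart e rfl hc)
  have hle : (actHom e rfl hc).range ≤ autSub := by
    rw [MonoidHom.range_eq_map, ← htop]; exact image_le e rfl hc
  refine Subgroup.eq_of_le_of_card_ge hle ?_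
  rw [MonoidHom.range_eq_map, Subgroup.card_map_of_injective (actHom_injective e rfl hc),
    Subgroup.card_top, natCard_SL33]
  exact natCard_autSub_le

/-- The model isomorphism. -/
noncomputable def modelEquiv : SL33 ≃* ↥autSub :=
  (MonoidHom.ofInjective (actHom_injective (Equiv.refl SL33) rfl fun _ _ => Iff.rfl)).trans
    (MulEquiv.subgroupCongr model_range)

theorem iso_of_commuting_graph {H : Type*} [Group H] [Finite H] (e : H ≃ SL33) (he : e 1 = 1)
    (hc : ∀ x y : H, Commute x y ↔ Commute (e x) (e y)) : Nonempty (H ≃* SL33) := by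
  have := simple_SL33
  have hs : IsSimpleGroup ↥autSub := modelEquiv.symm.isSimpleGroup
  have hcard : Nat.card autSub = 5616 := by
    rw [← Nat.card_congr modelEquiv.toEquiv, natCard_SL33]
  exact ⟨((MonoidHom.ofInjective (actHom_injective e he hc)).trans
    (MulEquiv.subgroupCongr (range_eq e he hc hs hcard))).trans modelEquiv.symm⟩

end CfsgLib.CommGraph
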