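import Mathlib

/-!
The plane over the field of three elements: points, incidence, and the rigidity of a frame.
-/

set_option autoImplicit false

namespace CfsgLib.CommGraph

/-- Incidence of the `i`-th point and the `j`-th line. -/
def inc (i j : Fin 13) : Bool :=
  (0x10a84620e04c48548e00a48a48400f88a28600e2492 : ℕ).testBit (13 * i.val + j.val)

/-- Coordinates of the `i`-th point (and line). -/
def coord (i : Fin 13) (a : Fin 3) : ℕ :=
  ([[0,0,1],[0,1,0],[0,1,1],[0,1,2],[1,0,0],[1,0,1],[1,0,2],[1,1,0],[1,1,1],[1,1,2],[1,2,0],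
    [1,2,1],[1,2,2]].getD i.val []).getD a.val 0

/-- The representative vectors. -/
def pt (i : Fin 13) : Fin 3 → ZMod 3 := fun a => (coord i a : ZMod 3)

theorem inc_iff (i j : Fin 13) : inc i j = true ↔ pt i ⬝ᵥ pt j = 0 := by
  revert i j; decide +kernel

theorem exists_rep : ∀ v : Fin 3 → ZMod 3, v ≠ 0 → ∃ i, ∃ c : ZMod 3, c ≠ 0 ∧ v = c • pt i := by
  decide +kernel

/-- The vertices of the incidence graph. -/
abbrev Obj : Type := Fin 13 ⊕ Fin 13

/-- Adjacency in the incidence graph. -/
def Adj : Obj → Obj → Bool
  | .inl i, .inr j => inc i j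
  | .inr j, .inl i => inc i j
  | _, _ => false

/-- Which of the two sides. -/
def side : Obj → Bool
  | .inl _ => false
  | .inr _ => true

theorem side_ne_of_adj {o o' : Obj} (h : Adj o o' = true) : side o ≠ side o' := by
  rcases o with i | i <;> rcases o' with j | j <;> simp_all [Adj, side]

theorem common : ∀ o o' : Obj, side o = side o' → ∃ z, Adj o z = true ∧ Adj o' z = true := by
  decide +kernel

/-- All vertices, as a list. -/
def objs : List Obj := (List.finRange 13).map Sum.inl ++ (List.finRange 13).map Sum.inr

theorem mem_objs (o : Obj) : o ∈ objs := by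
  rcases o with i | i <;> simp [objs]

theorem common_le_one_aux : (objs.all fun a => objs.all fun b =>
    decide (a = b) || decide ((objs.filter fun z => Adj a z && Adj b z).length ≤ 1)) = true := by
  decide +kernel

theorem unique_common (a b z w : Obj) (hab : a ≠ b) (h1 : Adj a z = true) (h2 : Adj b z = true)
    (h3 : Adj a w = true) (h4 : Adj b w = true) : z = w := by
  have h := common_le_one_aux
  simp only [List.all_eq_true, Bool.or_eq_true, decide_eq_true_eq] at h
  have hl := (h a (mem_objs a) b (mem_objs b)).resolve_left hab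
  have hz : z ∈ objs.filter fun z => Adj a z && Adj b z := List.mem_filter.2 ⟨mem_objs z, by simp [h1, h2]⟩
  have hw : w ∈ objs.filter fun z => Adj a z && Adj b z := List.mem_filter.2 ⟨mem_objs w, by simp [h3, h4]⟩
  match hl' : objs.filter (fun z => Adj a z && Adj b z), hz, hw with
  | [x], hz, hw => simp at hz hw; rw [hz, hw]
  | x :: y :: l, _, _ => rw [hl'] at hl; simp at hl

/-- The joining vertex. -/
def join (a b : Obj) : Obj :=
  ((objs.find? fun z => Adj a z && Adj b z).getD a)

/-- One step of the closure. -/
def close (P : List Obj) : List Obj :=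
  (P ++ P.flatMap fun a => (P.filter fun b => decide (a ≠ b) && side a == side b).map (join a)).dedup

theorem join_adj : ∀ a b : Obj, a ≠ b → side a = side b →
    Adj a (join a b) = true ∧ Adj b (join a b) = true := by
  decide +kernel

/-- The permutations preserving both sides and the adjacency. -/
def autSub : Subgroup (Equiv.Perm Obj) where
  carrier := {π | (∀ o, side (π o) = side o) ∧ ∀ o o', Adj (π o) (π o') = Adj o o'}
  mul_mem' := by
    rintro a b ⟨h1, h2⟩ ⟨h3, h4⟩
    exact ⟨fun o => by rw [Equiv.Perm.mul_apply, h1, h3],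
      fun o o' => by rw [Equiv.Perm.mul_apply, Equiv.Perm.mul_apply, h2, h4]⟩
  one_mem' := ⟨fun _ => rfl, fun _ _ => rfl⟩
  inv_mem' := by
    rintro a ⟨h1, h2⟩
    refine ⟨fun o => ?_, fun o o' => ?_⟩
    · rw [← h1]
      exact congrArg side (a.apply_symm_apply o)
    · rw [← h2]
      exact congrArg₂ Adj (a.apply_symm_apply o) (a.apply_symm_apply o')

theorem eq_one_of_fixed {π : Equiv.Perm Obj} (hπ : π ∈ autSub) {P : List Obj}
    (hP : ∀ o ∈ P, π o = o) : ∀ o ∈ close P, π o = o := by
  intro o ho
  simp only [close, List.mem_dedup, List.mem_append, List.mem_flatMap, List.mem_map, List.mem_filter,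
    Bool.and_eq_true, beq_iff_eq, decide_eq_true_eq] at ho
  rcases ho with ho | ⟨a, ha, b, ⟨hb, hne, hs⟩, rfl⟩
  · exact hP o ho
  obtain ⟨j1, j2⟩ := join_adj a b hne hs
  have e1 := hπ.2 a (join a b)
  have e2 := hπ.2 b (join a b)
  rw [hP a ha, j1] at e1
  rw [hP b hb, j2] at e2
  exact unique_common a b _ _ hne e1 e2 j1 j2

/-- A frame. -/
def frame : List Obj := [.inl 0, .inl 1, .inl 4, .inl 8]

theorem close_frame_aux : (objs.all fun o => (close (close (close (close (close frame))))).any fun x => decide (x = o)) = true := by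
  decide +kernel

theorem close_frame (o : Obj) : o ∈ close (close (close (close (close frame)))) := by
  have := List.all_eq_true.1 close_frame_aux o (mem_objs o)
  obtain ⟨x, hx, e⟩ := List.any_eq_true.1 this
  exact of_decide_eq_true e ▸ hx

/-- No line contains the three points. -/
def noThree (a b c : Fin 13) : Bool :=
  (List.finRange 13).all fun j => !(inc a j && inc b j && inc c j)

/-- The frames. -/
def frames : List (Fin 13 × Fin 13 × Fin 13 × Fin 13) :=
  (List.finRange 13).flatMap fun a =>
    ((List.finRange 13).filter fun b => a != b).flatMap fun b =>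
      ((List.finRange 13).filter fun c => noThree a b c).flatMap fun c =>
        ((List.finRange 13).filter fun d => noThree a b d && noThree a c d && noThree b c d).map
          fun d => (a, b, c, d)

theorem frames_length : frames.length = 5616 := by decide +kernel

theorem mem_frames {a b c d : Fin 13} (h1 : a ≠ b) (h2 : noThree a b c = true)
    (h3 : noThree a b d = true) (h4 : noThree a c d = true) (h5 : noThree b c d = true) :
    (a, b, c, d) ∈ frames := by
  simp only [frames, List.mem_flatMap, List.mem_filter, List.mem_map, List.mem_finRange, true_and,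
    bne_iff_ne, ne_eq, Bool.and_eq_true]
  exact ⟨a, b, h1, c, h2, d, ⟨⟨h3, h4⟩, h5⟩, rfl⟩

theorem frame_noThree : noThree 0 1 4 = true ∧ noThree 0 1 8 = true ∧ noThree 0 4 8 = true ∧
    noThree 1 4 8 = true := by
  decide +kernel

theorem noThree_image {π : Equiv.Perm Obj} (hπ : π ∈ autSub) {f : Fin 13 → Fin 13}
    (hf : ∀ i, π (.inl i) = .inl (f i)) {a b c : Fin 13} (h : noThree a b c = true) :
    noThree (f a) (f b) (f c) = true := by
  simp only [noThree, List.all_eq_true, List.mem_finRange, true_implies, Bool.not_eq_true',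
    Bool.and_eq_false_iff] at h ⊢
  intro j
  obtain ⟨o, ho⟩ := π.surjective (.inr j)
  rcases o with i | i
  · have := hπ.1 (.inl i)
    rw [ho] at this
    exact absurd this (by simp [side])
  · have key : ∀ x, inc (f x) j = inc x i := fun x => by
      have := hπ.2 (.inl x) (.inr i)
      rw [hf, ho] at this
      simpa [Adj] using this
    simp only [key]
    exact h i

theorem natCard_autSub_le : Nat.card autSub ≤ 5616 := by
  classical
  have hex : ∀ π : autSub, ∀ i, ∃ i', (π : Equiv.Perm Obj) (.inl i) = .inl i' := fun π i => by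
    rcases hv : (π : Equiv.Perm Obj) (.inl i) with i' | i'
    · exact ⟨i', rfl⟩
    · have := π.2.1 (.inl i)
      rw [hv] at this
      exact absurd this (by simp [side])
  choose f hf using hex
  let Φ : autSub → {x // x ∈ frames.toFinset} := fun π =>
    ⟨(f π 0, f π 1, f π 4, f π 8), List.mem_toFinset.2 (mem_frames
      (fun e => by
        have := (π : Equiv.Perm Obj).injective ((hf π 0).trans ((congrArg Sum.inl e).trans (hf π 1).symm))
        simp at this)
      (noThree_image π.2 (hf π) frame_noThree.1) (noThree_image π.2 (hf π) frame_noThree.2.1)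
      (noThree_image π.2 (hf π) frame_noThree.2.2.1) (noThree_image π.2 (hf π) frame_noThree.2.2.2))⟩
  have hinj : Function.Injective Φ := by
    intro π π' e
    simp only [Φ, Subtype.mk.injEq, Prod.mk.injEq] at e
    have hq : π'⁻¹ * π = 1 := by
      refine Subtype.ext (Equiv.ext fun o => ?_)
      refine eq_one_of_fixed (π'⁻¹ * π).2 (eq_one_of_fixed (π'⁻¹ * π).2
        (eq_one_of_fixed (π'⁻¹ * π).2 (eq_one_of_fixed (π'⁻¹ * π).2
          (eq_one_of_fixed (π'⁻¹ * π).2 ?_)))) o (close_frame o)
      intro x hx
      have : ∀ i, f π i = f π' i → ((π'⁻¹ * π : autSub) : Equiv.Perm Obj) (.inl i) = .inl i :=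
        fun i hi => by
          rw [Subgroup.coe_mul, Subgroup.coe_inv, Equiv.Perm.mul_apply, Equiv.Perm.inv_eq_iff_eq, hf,
            hi, ← hf]
      simp only [frame, List.mem_cons, List.not_mem_nil, or_false] at hx
      rcases hx with rfl | rfl | rfl | rfl
      exacts [this 0 e.1, this 1 e.2.1, this 4 e.2.2.1, this 8 e.2.2.2]
    exact (inv_mul_eq_one.1 hq).symm
  calc Nat.card autSub ≤ Nat.card {x // x ∈ frames.toFinset} := Nat.card_le_card_of_injective Φ hinj
    _ ≤ 5616 := by
      rw [Nat.card_eq_fintype_card, Fintype.card_coe, ← frames_length]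
      exact List.toFinset_card_le _

end CfsgLib.CommGraph
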